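import Cfsg.Agent.Lib.Presented.Coset
import Cfsg.Agent.Lib.Presented.ON.Edge
import Cfsg.Agent.Lib.Presented.ONRigid.ActData

/-! The table as a certificate record, of which only the images are used. -/

set_option autoImplicit false
set_option maxRecDepth 20000

namespace Cfsg.Agent.Presented.ONRigid

open Cfsg.Agent.Presented

/-- The table; the fields for justifications are empty. -/
noncomputable def cert : CosetCert where
  N := 122760
  m := 7
  depth := 20
  act := actT
  aw := 17
  rank := .leaf 0
  rw := 1
  just := .leaf 0
  jw := 1
  par := .leaf 0
  pw := 1
  nR := 0
  words := []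

/-- The edge has the image of the proved table. -/
noncomputable def agreeAt (e : ℕ) : Bool :=
  Nat.beq (cert.act.get cert.aw e) (ONTable.ecert.imgOf (ONTable.ecert.ar e))

end Cfsg.Agent.Presented.ONRigid
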