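import Cfsg.Agent.Lib.Presented.Rigid
import Cfsg.Agent.Lib.Presented.ONRigid.Act
import Cfsg.Agent.Lib.Presented.ONRigid.Data

/-! Every candidate is allowed or violates a relation. -/

set_option autoImplicit false
set_option maxRecDepth 20000

namespace Cfsg.Agent.Presented.ONRigid

open Cfsg.Agent.Presented

theorem cand1 : (cands.all fun l => data.candOK cert 1 l) = true := by
  decide +kernel

theorem cand2 : (cands.all fun l => data.candOK cert 2 l) = true := by
  decide +kernel

theorem cand4 : (cands.all fun l => data.candOK cert 4 l) = true := by
  decide +kernel


end Cfsg.Agent.Presented.ONRigid
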