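import Cfsg.Agent.Lib.Presented.RigidStab
import Cfsg.Agent.Lib.Presented.ONRigid.Act
import Cfsg.Agent.Lib.Presented.ONRigid.Data
import Cfsg.Agent.Lib.Presented.ONRigid.Levels

/-! The centraliser of `xWord` in the point stabiliser. -/

set_option autoImplicit false
set_option maxRecDepth 20000

namespace Cfsg.Agent.Presented.ONRigid

open Cfsg.Agent.Presented

theorem cent0 : ((solutions cert data.bs (slice XChain (0 * 1397) 1397) xWord xWord).all fun g =>
    (List.range 19).any fun k => sameOn cert data.bs g (rep k xWord)) = true := by
  decide +kernel

theorem cent1 : ((solutions cert data.bs (slice XChain (1 * 1397) 1397) xWord xWord).all fun g =>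
    (List.range 19).any fun k => sameOn cert data.bs g (rep k xWord)) = true := by
  decide +kernel

theorem cent2 : ((solutions cert data.bs (slice XChain (2 * 1397) 1397) xWord xWord).all fun g =>
    (List.range 19).any fun k => sameOn cert data.bs g (rep k xWord)) = true := by
  decide +kernel

theorem cent3 : ((solutions cert data.bs (slice XChain (3 * 1397) 1397) xWord xWord).all fun g =>
    (List.range 19).any fun k => sameOn cert data.bs g (rep k xWord)) = true := by
  decide +kernel


end Cfsg.Agent.Presented.ONRigid
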