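import Cfsg.Agent.Lib.Presented.Rigid
import Cfsg.Agent.Lib.Presented.ONRigid.Act
import Cfsg.Agent.Lib.Presented.ONRigid.Levels

/-! The first level of the chain, by chunks. -/

set_option autoImplicit false
set_option maxRecDepth 20000

namespace Cfsg.Agent.Presented.ONRigid

open Cfsg.Agent.Presented

theorem X0chunk12 : (X0r12.all fun t => lettersOK cert t.2 && Nat.beq (cert.path t.2 19) t.1 &&
    List.all [0] fun p => Nat.blt p cert.N && Nat.beq (cert.path t.2 p) p) = true := by
  decide +kernel

theorem X0chunk13 : (X0r13.all fun t => lettersOK cert t.2 && Nat.beq (cert.path t.2 19) t.1 &&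
    List.all [0] fun p => Nat.blt p cert.N && Nat.beq (cert.path t.2 p) p) = true := by
  decide +kernel

theorem X0chunk14 : (X0r14.all fun t => lettersOK cert t.2 && Nat.beq (cert.path t.2 19) t.1 &&
    List.all [0] fun p => Nat.blt p cert.N && Nat.beq (cert.path t.2 p) p) = true := by
  decide +kernel

theorem X0chunk15 : (X0r15.all fun t => lettersOK cert t.2 && Nat.beq (cert.path t.2 19) t.1 &&
    List.all [0] fun p => Nat.blt p cert.N && Nat.beq (cert.path t.2 p) p) = true := by
  decide +kernel

theorem X0chunk16 : (X0r16.all fun t => lettersOK cert t.2 && Nat.beq (cert.path t.2 19) t.1 &&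
    List.all [0] fun p => Nat.blt p cert.N && Nat.beq (cert.path t.2 p) p) = true := by
  decide +kernel

theorem X0chunk17 : (X0r17.all fun t => lettersOK cert t.2 && Nat.beq (cert.path t.2 19) t.1 &&
    List.all [0] fun p => Nat.blt p cert.N && Nat.beq (cert.path t.2 p) p) = true := by
  decide +kernel

theorem X0chunk18 : (X0r18.all fun t => lettersOK cert t.2 && Nat.beq (cert.path t.2 19) t.1 &&
    List.all [0] fun p => Nat.blt p cert.N && Nat.beq (cert.path t.2 p) p) = true := by
  decide +kernel

theorem X0chunk19 : (X0r19.all fun t => lettersOK cert t.2 && Nat.beq (cert.path t.2 19) t.1 &&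
    List.all [0] fun p => Nat.blt p cert.N && Nat.beq (cert.path t.2 p) p) = true := by
  decide +kernel

theorem X0chunk20 : (X0r20.all fun t => lettersOK cert t.2 && Nat.beq (cert.path t.2 19) t.1 &&
    List.all [0] fun p => Nat.blt p cert.N && Nat.beq (cert.path t.2 p) p) = true := by
  decide +kernel

theorem X0chunk21 : (X0r21.all fun t => lettersOK cert t.2 && Nat.beq (cert.path t.2 19) t.1 &&
    List.all [0] fun p => Nat.blt p cert.N && Nat.beq (cert.path t.2 p) p) = true := by
  decide +kernel

theorem X0chunk22 : (X0r22.all fun t => lettersOK cert t.2 && Nat.beq (cert.path t.2 19) t.1 &&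
    List.all [0] fun p => Nat.blt p cert.N && Nat.beq (cert.path t.2 p) p) = true := by
  decide +kernel


end Cfsg.Agent.Presented.ONRigid
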