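import Cfsg.Agent.Lib.Presented.ONRigid.ChainX0
import Cfsg.Agent.Lib.Presented.ONRigid.ChainX1

/-! The chain is checked level by level. -/

set_option autoImplicit false
set_option maxRecDepth 20000

namespace Cfsg.Agent.Presented.ONRigid

open Cfsg.Agent.Presented

theorem XLev0_start : (Nat.blt 19 cert.N && incr (XLev0.2.map Prod.fst)) = true := by
  decide +kernel

theorem XLev0_ok : rlevelOK cert [0] XLev0 = true := by
  refine Bool.and_eq_true_iff.2 ⟨XLev0_start, ?_⟩
  simp only [XLev0, List.all_append, Bool.and_eq_true]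
  exact ⟨X0chunk0, X0chunk1, X0chunk2, X0chunk3, X0chunk4, X0chunk5, X0chunk6, X0chunk7, X0chunk8, X0chunk9, X0chunk10, X0chunk11, X0chunk12, X0chunk13, X0chunk14, X0chunk15, X0chunk16, X0chunk17, X0chunk18, X0chunk19, X0chunk20, X0chunk21, X0chunk22⟩

theorem XLev1_ok : rlevelOK cert [19, 0] XLev1 = true := by
  decide +kernel

theorem XLev2_ok : rlevelOK cert [45, 19, 0] XLev2 = true := by
  decide +kernel

theorem XLev3_ok : rlevelOK cert [6507, 45, 19, 0] XLev3 = true := by
  decide +kernel

theorem XChain_ok : rchainOK cert (XChain.map Prod.fst) [0] = true :=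
  (rchainOK_cons XLev0_ok (rchainOK_cons XLev1_ok (rchainOK_cons XLev2_ok (rchainOK_cons XLev3_ok rfl))))

theorem XChain_size : rsize (XChain.map Prod.fst) = 3753792 := by
  decide +kernel


end Cfsg.Agent.Presented.ONRigid
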