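import Cfsg.Agent.Lib.Presented.ONRigid.ChainY0
import Cfsg.Agent.Lib.Presented.ONRigid.ChainY1

/-! The chain is checked level by level. -/

set_option autoImplicit false
set_option maxRecDepth 20000

namespace Cfsg.Agent.Presented.ONRigid

open Cfsg.Agent.Presented

theorem YLev0_start : (Nat.blt 19040 cert.N && incr (YLev0.2.map Prod.fst)) = true := by
  decide +kernel

theorem YLev0_ok : rlevelOK cert [0] YLev0 = true := by
  refine Bool.and_eq_true_iff.2 ⟨YLev0_start, ?_⟩
  simp only [YLev0, List.all_append, Bool.and_eq_true]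
  exact ⟨Y0chunk0, Y0chunk1, Y0chunk2, Y0chunk3, Y0chunk4, Y0chunk5, Y0chunk6, Y0chunk7, Y0chunk8, Y0chunk9, Y0chunk10, Y0chunk11, Y0chunk12, Y0chunk13, Y0chunk14, Y0chunk15, Y0chunk16, Y0chunk17, Y0chunk18, Y0chunk19, Y0chunk20, Y0chunk21, Y0chunk22⟩

theorem YLev1_ok : rlevelOK cert [19040, 0] YLev1 = true := by
  decide +kernel

theorem YLev2_ok : rlevelOK cert [49654, 19040, 0] YLev2 = true := by
  decide +kernel

theorem YLev3_ok : rlevelOK cert [278, 49654, 19040, 0] YLev3 = true := by
  decide +kernel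

theorem YChain_ok : rchainOK cert (YLev0 :: YRest.map Prod.fst) [0] = true :=
  (rchainOK_cons YLev0_ok (rchainOK_cons YLev1_ok (rchainOK_cons YLev2_ok (rchainOK_cons YLev3_ok rfl))))

theorem YChain_size : rsize (YLev0 :: YRest.map Prod.fst) = 3753792 := by
  decide +kernel


end Cfsg.Agent.Presented.ONRigid
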