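import Cfsg.Agent.Lib.Presented.RigidStab
import Cfsg.Agent.Lib.Presented.ONRigid.Act
import Cfsg.Agent.Lib.Presented.ONRigid.Data

/-! A scan for fixed points. -/

set_option autoImplicit false
set_option maxRecDepth 20000

namespace Cfsg.Agent.Presented.ONRigid

open Cfsg.Agent.Presented

theorem fixX9 : fixRangeOK cert xWord [0] 92070 14 10230 = true := by
  decide +kernel

theorem fixX10 : fixRangeOK cert xWord [0] 102300 14 10230 = true := by
  decide +kernel

theorem fixX11 : fixRangeOK cert xWord [0] 112530 14 10230 = true := by
  decide +kernel


end Cfsg.Agent.Presented.ONRigid
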