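import Cfsg.Agent.Lib.Presented.ONRigid.FixX0
import Cfsg.Agent.Lib.Presented.ONRigid.FixX1
import Cfsg.Agent.Lib.Presented.ONRigid.FixX2
import Cfsg.Agent.Lib.Presented.ONRigid.FixX3

/-! The scans joined. -/

set_option autoImplicit false
set_option maxRecDepth 20000

namespace Cfsg.Agent.Presented.ONRigid

open Cfsg.Agent.Presented

theorem mem_of_fixX {i : ℕ} (hi : i < 122760) (h : cert.path xWord i = i) : i ∈ [0] := by
  have key : ∀ k, k < 12 → fixRangeOK cert xWord [0] (k * 10230) 14 10230 = true := by
    intro k hk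
    interval_cases k
    · exact fixX0
    · exact fixX1
    · exact fixX2
    · exact fixX3
    · exact fixX4
    · exact fixX5
    · exact fixX6
    · exact fixX7
    · exact fixX8
    · exact fixX9
    · exact fixX10
    · exact fixX11
  have h1 : i / 10230 < 12 := by omega
  obtain ⟨d, hd⟩ : ∃ d, i = i / 10230 * 10230 + d := Nat.exists_eq_add_of_le (Nat.div_mul_le_self _ _)
  have hd' : d < 10230 := by omega
  rw [hd] at h ⊢
  exact mem_of_fixRangeOK (key _ h1) hd' h

end Cfsg.Agent.Presented.ONRigid
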