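import Cfsg.Agent.Lib.Presented.RigidStab
import Cfsg.Agent.Lib.Presented.ONRigid.Act
import Cfsg.Agent.Lib.Presented.ONRigid.Data

/-! A scan for fixed points. -/

set_option autoImplicit false
set_option maxRecDepth 20000

namespace Cfsg.Agent.Presented.ONRigid

open Cfsg.Agent.Presented

theorem fixY20 : fixRangeOK cert yWord (topY.2.map Prod.fst) 111600 14 5580 = true := by
  decide +kernel

theorem fixY21 : fixRangeOK cert yWord (topY.2.map Prod.fst) 117180 14 5580 = true := by
  decide +kernel


end Cfsg.Agent.Presented.ONRigid
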