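import Cfsg.Agent.Lib.Presented.ONRigid.FixY0
import Cfsg.Agent.Lib.Presented.ONRigid.FixY1
import Cfsg.Agent.Lib.Presented.ONRigid.FixY2
import Cfsg.Agent.Lib.Presented.ONRigid.FixY3
import Cfsg.Agent.Lib.Presented.ONRigid.FixY4
import Cfsg.Agent.Lib.Presented.ONRigid.FixY5

/-! The scans joined. -/

set_option autoImplicit false
set_option maxRecDepth 20000

namespace Cfsg.Agent.Presented.ONRigid

open Cfsg.Agent.Presented

theorem mem_of_fixY {i : ℕ} (hi : i < 122760) (h : cert.path yWord i = i) : i ∈ (topY.2.map Prod.fst) := by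
  have key : ∀ k, k < 22 → fixRangeOK cert yWord (topY.2.map Prod.fst) (k * 5580) 14 5580 = true := by
    intro k hk
    interval_cases k
    · exact fixY0
    · exact fixY1
    · exact fixY2
    · exact fixY3
    · exact fixY4
    · exact fixY5
    · exact fixY6
    · exact fixY7
    · exact fixY8
    · exact fixY9
    · exact fixY10
    · exact fixY11
    · exact fixY12
    · exact fixY13
    · exact fixY14
    · exact fixY15
    · exact fixY16
    · exact fixY17
    · exact fixY18
    · exact fixY19
    · exact fixY20
    · exact fixY21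
  have h1 : i / 5580 < 22 := by omega
  obtain ⟨d, hd⟩ : ∃ d, i = i / 5580 * 5580 + d := Nat.exists_eq_add_of_le (Nat.div_mul_le_self _ _)
  have hd' : d < 5580 := by omega
  rw [hd] at h ⊢
  exact mem_of_fixRangeOK (key _ h1) hd' h

end Cfsg.Agent.Presented.ONRigid
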