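import Cfsg.Agent.Lib.Presented.RigidStab
import Cfsg.Agent.Lib.Presented.ONRigid.Act
import Cfsg.Agent.Lib.Presented.ONRigid.Data
import Cfsg.Agent.Lib.Presented.ONRigid.Levels

/-! The centraliser of `yWord`. -/

set_option autoImplicit false
set_option maxRecDepth 20000

namespace Cfsg.Agent.Presented.ONRigid

open Cfsg.Agent.Presented

theorem lands_ok : landsOK cert topY landPts = true := by
  decide +kernel

theorem sol_ok : solutions cert data.bs ((topY, topY.1) :: (midLevel landPts YLev0, YLev0.1) :: YRest) yWord (rep 1 yWord) = cands := by
  decide +kernel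


end Cfsg.Agent.Presented.ONRigid
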