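import Cfsg.Agent.Lib.Presented.ONRigid.Act

/-! Comparison with the proved table. -/

set_option autoImplicit false
set_option maxRecDepth 20000

namespace Cfsg.Agent.Presented.ONRigid

open Cfsg.Agent.Presented

theorem agree_9 : checkBlock agreeAt (cert.N * cert.m) 14 147456 = true := by
  decide +kernel

theorem agree_10 : checkBlock agreeAt (cert.N * cert.m) 14 163840 = true := by
  decide +kernel

theorem agree_11 : checkBlock agreeAt (cert.N * cert.m) 14 180224 = true := by
  decide +kernel

theorem agree_12 : checkBlock agreeAt (cert.N * cert.m) 14 196608 = true := by
  decide +kernel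

theorem agree_13 : checkBlock agreeAt (cert.N * cert.m) 14 212992 = true := by
  decide +kernel

theorem agree_14 : checkBlock agreeAt (cert.N * cert.m) 14 229376 = true := by
  decide +kernel

theorem agree_15 : checkBlock agreeAt (cert.N * cert.m) 14 245760 = true := by
  decide +kernel

theorem agree_16 : checkBlock agreeAt (cert.N * cert.m) 14 262144 = true := by
  decide +kernel

theorem agree_17 : checkBlock agreeAt (cert.N * cert.m) 14 278528 = true := by
  decide +kernel


end Cfsg.Agent.Presented.ONRigid
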