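import Cfsg.Agent.Lib.Presented.ONRigid.Act

/-! Comparison with the proved table. -/

set_option autoImplicit false
set_option maxRecDepth 20000

namespace Cfsg.Agent.Presented.ONRigid

open Cfsg.Agent.Presented

theorem agree_18 : checkBlock agreeAt (cert.N * cert.m) 14 294912 = true := by
  decide +kernel

theorem agree_19 : checkBlock agreeAt (cert.N * cert.m) 14 311296 = true := by
  decide +kernel

theorem agree_20 : checkBlock agreeAt (cert.N * cert.m) 14 327680 = true := by
  decide +kernel

theorem agree_21 : checkBlock agreeAt (cert.N * cert.m) 14 344064 = true := by
  decide +kernel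

theorem agree_22 : checkBlock agreeAt (cert.N * cert.m) 14 360448 = true := by
  decide +kernel

theorem agree_23 : checkBlock agreeAt (cert.N * cert.m) 14 376832 = true := by
  decide +kernel

theorem agree_24 : checkBlock agreeAt (cert.N * cert.m) 14 393216 = true := by
  decide +kernel

theorem agree_25 : checkBlock agreeAt (cert.N * cert.m) 14 409600 = true := by
  decide +kernel

theorem agree_26 : checkBlock agreeAt (cert.N * cert.m) 14 425984 = true := by
  decide +kernel


end Cfsg.Agent.Presented.ONRigid
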