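import Cfsg.Agent.Lib.Presented.ONRigid.Act

/-! Comparison with the proved table. -/

set_option autoImplicit false
set_option maxRecDepth 20000

namespace Cfsg.Agent.Presented.ONRigid

open Cfsg.Agent.Presented

theorem agree_27 : checkBlock agreeAt (cert.N * cert.m) 14 442368 = true := by
  decide +kernel

theorem agree_28 : checkBlock agreeAt (cert.N * cert.m) 14 458752 = true := by
  decide +kernel

theorem agree_29 : checkBlock agreeAt (cert.N * cert.m) 14 475136 = true := by
  decide +kernel

theorem agree_30 : checkBlock agreeAt (cert.N * cert.m) 14 491520 = true := by
  decide +kernel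

theorem agree_31 : checkBlock agreeAt (cert.N * cert.m) 14 507904 = true := by
  decide +kernel

theorem agree_32 : checkBlock agreeAt (cert.N * cert.m) 14 524288 = true := by
  decide +kernel

theorem agree_33 : checkBlock agreeAt (cert.N * cert.m) 14 540672 = true := by
  decide +kernel

theorem agree_34 : checkBlock agreeAt (cert.N * cert.m) 14 557056 = true := by
  decide +kernel

theorem agree_35 : checkBlock agreeAt (cert.N * cert.m) 14 573440 = true := by
  decide +kernel


end Cfsg.Agent.Presented.ONRigid
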