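import Cfsg.Agent.Lib.Presented.ONRigid.Act

/-! Comparison with the proved table. -/

set_option autoImplicit false
set_option maxRecDepth 20000

namespace Cfsg.Agent.Presented.ONRigid

open Cfsg.Agent.Presented

theorem agree_36 : checkBlock agreeAt (cert.N * cert.m) 14 589824 = true := by
  decide +kernel

theorem agree_37 : checkBlock agreeAt (cert.N * cert.m) 14 606208 = true := by
  decide +kernel

theorem agree_38 : checkBlock agreeAt (cert.N * cert.m) 14 622592 = true := by
  decide +kernel

theorem agree_39 : checkBlock agreeAt (cert.N * cert.m) 14 638976 = true := by
  decide +kernel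

theorem agree_40 : checkBlock agreeAt (cert.N * cert.m) 14 655360 = true := by
  decide +kernel

theorem agree_41 : checkBlock agreeAt (cert.N * cert.m) 14 671744 = true := by
  decide +kernel

theorem agree_42 : checkBlock agreeAt (cert.N * cert.m) 14 688128 = true := by
  decide +kernel

theorem agree_43 : checkBlock agreeAt (cert.N * cert.m) 14 704512 = true := by
  decide +kernel

theorem agree_44 : checkBlock agreeAt (cert.N * cert.m) 14 720896 = true := by
  decide +kernel


end Cfsg.Agent.Presented.ONRigid
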