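import Cfsg.Agent.Lib.Presented.ONRigid.Act

/-! Comparison with the proved table. -/

set_option autoImplicit false
set_option maxRecDepth 20000

namespace Cfsg.Agent.Presented.ONRigid

open Cfsg.Agent.Presented

theorem agree_45 : checkBlock agreeAt (cert.N * cert.m) 14 737280 = true := by
  decide +kernel

theorem agree_46 : checkBlock agreeAt (cert.N * cert.m) 14 753664 = true := by
  decide +kernel

theorem agree_47 : checkBlock agreeAt (cert.N * cert.m) 14 770048 = true := by
  decide +kernel

theorem agree_48 : checkBlock agreeAt (cert.N * cert.m) 14 786432 = true := by
  decide +kernel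

theorem agree_49 : checkBlock agreeAt (cert.N * cert.m) 14 802816 = true := by
  decide +kernel

theorem agree_50 : checkBlock agreeAt (cert.N * cert.m) 14 819200 = true := by
  decide +kernel

theorem agree_51 : checkBlock agreeAt (cert.N * cert.m) 14 835584 = true := by
  decide +kernel

theorem agree_52 : checkBlock agreeAt (cert.N * cert.m) 14 851968 = true := by
  decide +kernel


end Cfsg.Agent.Presented.ONRigid
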