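import Cfsg.Agent.Lib.Presented.ONRigid.Agree0
import Cfsg.Agent.Lib.Presented.ONRigid.Agree1
import Cfsg.Agent.Lib.Presented.ONRigid.Agree2
import Cfsg.Agent.Lib.Presented.ONRigid.Agree3
import Cfsg.Agent.Lib.Presented.ONRigid.Agree4
import Cfsg.Agent.Lib.Presented.ONRigid.Agree5

/-! The tree and the proved table agree. -/

set_option autoImplicit false
set_option maxRecDepth 20000

namespace Cfsg.Agent.Presented.ONRigid

open Cfsg.Agent.Presented

theorem agree_all : ∀ e, e < cert.N * cert.m → agreeAt e = true := by
  intro e he
  have hN : cert.N * cert.m = 859320 := by decide +kernel
  have key : ∀ k, k < 53 → checkBlock agreeAt (cert.N * cert.m) 14 (k * 16384) = true := by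
    intro k hk
    interval_cases k
    · exact agree_0
    · exact agree_1
    · exact agree_2
    · exact agree_3
    · exact agree_4
    · exact agree_5
    · exact agree_6
    · exact agree_7
    · exact agree_8
    · exact agree_9
    · exact agree_10
    · exact agree_11
    · exact agree_12
    · exact agree_13
    · exact agree_14
    · exact agree_15
    · exact agree_16
    · exact agree_17
    · exact agree_18
    · exact agree_19
    · exact agree_20
    · exact agree_21
    · exact agree_22
    · exact agree_23
    · exact agree_24
    · exact agree_25
    · exact agree_26
    · exact agree_27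
    · exact agree_28
    · exact agree_29
    · exact agree_30
    · exact agree_31
    · exact agree_32
    · exact agree_33
    · exact agree_34
    · exact agree_35
    · exact agree_36
    · exact agree_37
    · exact agree_38
    · exact agree_39
    · exact agree_40
    · exact agree_41
    · exact agree_42
    · exact agree_43
    · exact agree_44
    · exact agree_45
    · exact agree_46
    · exact agree_47
    · exact agree_48
    · exact agree_49
    · exact agree_50
    · exact agree_51
    · exact agree_52
  have h1 : e / 16384 < 53 := by omega
  have h2 : e / 16384 * 16384 ≤ e := Nat.div_mul_le_self _ _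
  have h3 : e < e / 16384 * 16384 + 16384 := by omega
  exact checkBlock_spec (key _ h1) e h2 (by norm_num; omega) he

end Cfsg.Agent.Presented.ONRigid
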