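import Cfsg.Agent.Lib.Presented.ONRigid.Act

/-! Comparison with the proved table. -/

set_option autoImplicit false
set_option maxRecDepth 20000

namespace Cfsg.Agent.Presented.ONRigid

open Cfsg.Agent.Presented

theorem agree_0 : checkBlock agreeAt (cert.N * cert.m) 14 0 = true := by
  decide +kernel

theorem agree_1 : checkBlock agreeAt (cert.N * cert.m) 14 16384 = true := by
  decide +kernel

theorem agree_2 : checkBlock agreeAt (cert.N * cert.m) 14 32768 = true := by
  decide +kernel

theorem agree_3 : checkBlock agreeAt (cert.N * cert.m) 14 49152 = true := by
  decide +kernel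

theorem agree_4 : checkBlock agreeAt (cert.N * cert.m) 14 65536 = true := by
  decide +kernel

theorem agree_5 : checkBlock agreeAt (cert.N * cert.m) 14 81920 = true := by
  decide +kernel

theorem agree_6 : checkBlock agreeAt (cert.N * cert.m) 14 98304 = true := by
  decide +kernel

theorem agree_7 : checkBlock agreeAt (cert.N * cert.m) 14 114688 = true := by
  decide +kernel

theorem agree_8 : checkBlock agreeAt (cert.N * cert.m) 14 131072 = true := by
  decide +kernel


end Cfsg.Agent.Presented.ONRigid
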