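import Cfsg.Agent.Lib.Presented.Rigid
import Cfsg.Agent.Lib.Presented.ONRigid.Act
import Cfsg.Agent.Lib.Presented.ONRigid.Levels

/-! The first level of the chain, by chunks. -/

set_option autoImplicit false
set_option maxRecDepth 20000

namespace Cfsg.Agent.Presented.ONRigid

open Cfsg.Agent.Presented

theorem X0chunk0 : (X0r0.all fun t => lettersOK cert t.2 && Nat.beq (cert.path t.2 19) t.1 &&
    List.all [0] fun p => Nat.blt p cert.N && Nat.beq (cert.path t.2 p) p) = true := by
  decide +kernel

theorem X0chunk1 : (X0r1.all fun t => lettersOK cert t.2 && Nat.beq (cert.path t.2 19) t.1 &&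
    List.all [0] fun p => Nat.blt p cert.N && Nat.beq (cert.path t.2 p) p) = true := by
  decide +kernel

theorem X0chunk2 : (X0r2.all fun t => lettersOK cert t.2 && Nat.beq (cert.path t.2 19) t.1 &&
    List.all [0] fun p => Nat.blt p cert.N && Nat.beq (cert.path t.2 p) p) = true := by
  decide +kernel

theorem X0chunk3 : (X0r3.all fun t => lettersOK cert t.2 && Nat.beq (cert.path t.2 19) t.1 &&
    List.all [0] fun p => Nat.blt p cert.N && Nat.beq (cert.path t.2 p) p) = true := by
  decide +kernel

theorem X0chunk4 : (X0r4.all fun t => lettersOK cert t.2 && Nat.beq (cert.path t.2 19) t.1 &&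
    List.all [0] fun p => Nat.blt p cert.N && Nat.beq (cert.path t.2 p) p) = true := by
  decide +kernel

theorem X0chunk5 : (X0r5.all fun t => lettersOK cert t.2 && Nat.beq (cert.path t.2 19) t.1 &&
    List.all [0] fun p => Nat.blt p cert.N && Nat.beq (cert.path t.2 p) p) = true := by
  decide +kernel

theorem X0chunk6 : (X0r6.all fun t => lettersOK cert t.2 && Nat.beq (cert.path t.2 19) t.1 &&
    List.all [0] fun p => Nat.blt p cert.N && Nat.beq (cert.path t.2 p) p) = true := by
  decide +kernel

theorem X0chunk7 : (X0r7.all fun t => lettersOK cert t.2 && Nat.beq (cert.path t.2 19) t.1 &&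
    List.all [0] fun p => Nat.blt p cert.N && Nat.beq (cert.path t.2 p) p) = true := by
  decide +kernel

theorem X0chunk8 : (X0r8.all fun t => lettersOK cert t.2 && Nat.beq (cert.path t.2 19) t.1 &&
    List.all [0] fun p => Nat.blt p cert.N && Nat.beq (cert.path t.2 p) p) = true := by
  decide +kernel

theorem X0chunk9 : (X0r9.all fun t => lettersOK cert t.2 && Nat.beq (cert.path t.2 19) t.1 &&
    List.all [0] fun p => Nat.blt p cert.N && Nat.beq (cert.path t.2 p) p) = true := by
  decide +kernel

theorem X0chunk10 : (X0r10.all fun t => lettersOK cert t.2 && Nat.beq (cert.path t.2 19) t.1 &&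
    List.all [0] fun p => Nat.blt p cert.N && Nat.beq (cert.path t.2 p) p) = true := by
  decide +kernel

theorem X0chunk11 : (X0r11.all fun t => lettersOK cert t.2 && Nat.beq (cert.path t.2 19) t.1 &&
    List.all [0] fun p => Nat.blt p cert.N && Nat.beq (cert.path t.2 p) p) = true := by
  decide +kernel


end Cfsg.Agent.Presented.ONRigid
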